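import Cfsg.Agent.H423.LB.CellSum
import Cfsg.Agent.H594.PQ.LinkE8

/-!
# `E₈`: the cell counts of helper596's proof that `8` lies in the principal block, `q` of order `5` (helper423, S4879)

* `exists_h` : an element commuting with the root groups of the nodes `0, 1, 2, 3`, and the sums over `P₄` of
  `f (h b)`, `f (b h)`, `f` bi-invariant under `P₇`.
-/

set_option autoImplicit false
set_option linter.unusedSectionVars false
set_option maxRecDepth 20000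

namespace Cfsg.Agent.H423.LB

open Cfsg.Agent.H423.PQ.Co Cfsg.Agent.H594.PQ Cfsg.Agent.H996.PQ Cfsg.Agent.H996.Eight
open CoxeterSystem Cfsg.Agent.ChevalleyStructure.CoxeterGeom Cfsg.Agent.Tits.Roots Cfsg.Agent.Tits.Core
  Cfsg.Agent.Tits.Exchange Cfsg.Agent.Nodes.Reps Cfsg.Agent.Nodes.BNOf Cfsg.Agent.Nodes.Bruhat
  Cfsg.Agent.Nodes.LeviDec

/-- a word `v` with `v α₇` the highest root -/
def vW : List (Fin 8) := [7, 6, 5, 4, 3, 2, 1, 3, 4, 5, 6, 0, 2, 3, 4, 5, 1, 3, 4, 2, 3, 0, 2, 1, 3, 4, 5, 6]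

/-- the reflection in the highest root -/
def thW : List (Fin 8) := vW ++ 7 :: vW.reverse

/-- the word of `h` -/
def hW : List (Fin 8) := [5, 6, 7] ++ thW ++ [7, 6, 5] ++ thW

/-- `v` maps simple roots orthogonal to `α₇` to the simple roots of the nodes `0, 1, 2, 3` -/
theorem vW_sr : ∀ k : Fin 8, (k : ℕ) < 4 → ∃ j : Fin 8, (∀ i : Fin 8, actL TabE8c.A vW (sr j) i = sr k i) ∧ (7 : Fin 8) ≠ j ∧
    TabE8c.A 7 j = 0 := by
  decide +kernel

theorem A_far : ∀ k : Fin 8, (k : ℕ) < 4 → ∀ i : Fin 8, 4 < (i : ℕ) → i ≠ k ∧ TabE8c.A i k = 0 := by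
  decide +kernel

/-- the states of `P₄` -/
def us (k : Fin 4) : Fin 240 := ([[], [7], [7, 6], [7, 6, 5]] : List (List (Fin 8))).getD k [] |>.foldl
  (fun b i => tabP.st i b) tabP.o

/-- the words -/
def wd (k : Fin 4) : List (Fin 8) := ([[], [7], [6, 7], [5, 6, 7]] : List (List (Fin 8))).getD k []

theorem us_inj : Function.Injective us := by decide +kernel

theorem us_st : ∀ i : Fin 8, i ≠ 4 → ∀ k, ∃ k', tabP.st i (us k) = us k' := by decide +kernel

/-- the test of the paths -/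
def posB (s : Fin 240) : List (Fin 8) → Bool
  | [] => true
  | i :: ω => decide (0 ≤ tabP.vec s i) && posB (tabP.st i s) ω

theorem posB_spec (ω : List (Fin 8)) : ∀ s : Fin 240, posB s ω = true → PosPath (ofSph tabP) s ω := by
  induction ω with
  | nil => exact fun s _ => trivial
  | cons i ω ih =>
    intro s hs
    rw [posB, Bool.and_eq_true, decide_eq_true_eq] at hs
    exact ⟨hs.1, ih _ hs.2⟩

theorem us_pos : ∀ s : Fin 240, (∀ i : Fin 8, i ≠ 4 → 0 ≤ tabP.vec s i) → ∀ k, posB s (wd k) = true := by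
  decide +kernel

/-- the local condition of `P₄` -/
def L4 : LocN (ofSph tabP) (Fin 4) where
  J' := {i | i ≠ 4}
  us := us
  wd := wd
  inj := us_inj
  hw := by
    show ∀ k, (wd k).reverse.foldl (fun b i => tabP.st i b) tabP.o = us k
    decide +kernel
  hU i hi k := us_st i hi k
  hp s hs k := posB_spec _ _ (us_pos s hs k)

/-- the fold of a word -/
def fo (ω : List (Fin 8)) (s : Fin 240) : Fin 240 := ω.foldl (fun b i => tabP.st i b) s

theorem ev1 : (∀ i : Fin 8, i ≠ 4 → 0 ≤ tabP.vec (fo hW tabP.o) i) ∧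
    ∀ k : Fin 4, tabP.cls (fo (wd k) (fo hW tabP.o)) = ([3, 3, 3, 4] : List (Fin 5)).getD k 0 := by
  decide +kernel

/-- the word which makes the state of `h⁻¹` minimal -/
def mW : List (Fin 8) := [5, 6, 7, 6, 5]

theorem ev2 : (∀ i : Fin 8, i ≠ 4 → 0 ≤ tabP.vec (fo (hW.reverse ++ mW) tabP.o) i) ∧
    ∀ k : Fin 4, tabP.cls (fo (wd k) (fo (hW.reverse ++ mW) tabP.o)) = ([1, 2, 2, 3] : List (Fin 5)).getD k 0 := by
  decide +kernel

theorem ev0 : (∀ i : Fin 8, i ≠ 4 → 0 ≤ tabP.vec tabP.o i) ∧ us 0 = tabP.o ∧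
    (∀ k : Fin 4, tabP.cls (fo (wd k) tabP.o) = tabP.cls tabP.o ↔ k = 0) ∧
    (∀ s, tabP.cls s = tabP.cls tabP.o → s = tabP.o) ∧ (∀ k : Fin 4, TabE8a.data.wl (us k) = k) := by
  decide +kernel

theorem isStarP : IsStar tabP id := by
  intro c
  have key : ∀ c : Fin 5, ∃ k : Fin 5,
      tabP.cls (fo (([[], [7], [7, 6, 5, 4, 3, 1, 2, 3, 4, 5, 6, 7], hW, thW] : List (List (Fin 8))).getD k []) tabP.o) = c ∧
      tabP.cls (fo (([[], [7], [7, 6, 5, 4, 3, 1, 2, 3, 4, 5, 6, 7], hW, thW] : List (List (Fin 8))).getD k []).reverse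
        tabP.o) = c := by
    decide +kernel
  obtain ⟨k, h1, h2⟩ := key c
  exact ⟨_, h1, h2⟩

section Main

variable {W Y : Type*} [Group W] [Finite W] [Group Y] [Finite Y]
    {M : CoxeterMatrix (Fin 8)} {cs : CoxeterSystem M W} {h : IsCartan M TabE8c.A} {p : ℕ} {T : Subgroup Y}
    {n : Fin 8 → Y} {X : (Fin 8 → ℤ) → Subgroup Y} (R : RGD cs h p T n X) (hG : GG cs h T X = ⊤)
    {x : ℕ} (hq : ∀ i, Nat.card (X (sr i)) = x)

include R in
/-- **The element.** -/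
theorem exists_hel : ∃ h₀ : Y, Rp cs R.nsys (cs.wordProd hW) h₀ ∧
    ∀ k : Fin 8, (k : ℕ) < 4 → ∀ a ∈ Sj X k, h₀ * a = a * h₀ := by
  obtain ⟨m, hm, hc⟩ := exists_refl R vW 7
  obtain ⟨n5, h5, r5⟩ := exists_n R 5
  obtain ⟨n6, h6, r6⟩ := exists_n R 6
  obtain ⟨n7, h7, r7⟩ := exists_n R 7
  have i5 := r5.inv
  have i6 := r6.inv
  have i7 := r7.inv
  rw [inv_simple] at i5 i6 i7
  refine ⟨n5 * (n6 * n7) * (m * (n7⁻¹ * (n6⁻¹ * n5⁻¹) * m)), ?_, fun k hk a ha => ?_⟩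
  · have e1 : cs.wordProd hW = cs.simple 5 * (cs.simple 6 * cs.simple 7) * (cs.wordProd thW *
        (cs.simple 7 * (cs.simple 6 * cs.simple 5) * cs.wordProd thW)) := by
      rw [hW, wordProd_append, wordProd_append, wordProd_append]
      simp only [wordProd_cons, wordProd_nil, mul_one, mul_assoc]
    rw [e1]
    exact (r5.mul (r6.mul r7)).mul (hm.mul ((i7.mul (i6.mul i5)).mul hm))
  · have c5 : Commute n5 a := comm_Sj R (A_far k hk 5 (by decide)).1 (A_far k hk 5 (by decide)).2 h5 ha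
    have c6 : Commute n6 a := comm_Sj R (A_far k hk 6 (by decide)).1 (A_far k hk 6 (by decide)).2 h6 ha
    have c7 : Commute n7 a := comm_Sj R (A_far k hk 7 (by decide)).1 (A_far k hk 7 (by decide)).2 h7 ha
    obtain ⟨j, hj, hj7, hA⟩ := vW_sr k hk
    have cm : Commute m a := hc j k (funext hj) hj7 hA a ha
    exact (c5.mul_left (c6.mul_left c7)).mul_left
      (cm.mul_left ((c7.inv_left.mul_left (c6.inv_left.mul_left c5.inv_left)).mul_left cm))

/-- the weights of the states -/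
def wt (x : ℕ) (s : Fin 240) : ℕ := x ^ TabE8a.data.wl s

theorem wt_o : wt x (ofSph tabP).o = 1 := by
  have h1 : TabE8a.data.wl (ofSph tabP).o = 0 := TabE8a.data.wo
  rw [wt, h1, pow_zero]

theorem e_one : ∀ i : Fin 8, TabE8a.data.e i = 1 := by
  show ∀ i : Fin 8, TabE8a.e i = 1
  decide +kernel

theorem wt_st (i : Fin 8) (s : Fin 240) (hs : 0 < (ofSph tabP).vec s i) :
    wt x ((ofSph tabP).st i s) = x * wt x s := by
  have h1 : TabE8a.data.wl ((ofSph tabP).st i s) = TabE8a.data.e i + TabE8a.data.wl s := TabE8a.data.ws i s hs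
  rw [wt, wt, h1, e_one, pow_add, pow_one]

theorem sum_wt (b : Fin 5 → ℚ) (s : Fin 240) : ∑ u ∈ L4.loc.U, (wt x u : ℚ) *
    b ((ofSph tabP).cls ((L4.loc.word u).foldl (fun b i => (ofSph tabP).st i b) s)) =
    ∑ k : Fin 4, (x : ℚ) ^ (k : ℕ) * b (tabP.cls (fo (wd k) s)) := by
  rw [L4.sum_loc fun u w => (wt x u : ℚ) * b ((ofSph tabP).cls (w.foldl (fun b i => (ofSph tabP).st i b) s))]
  refine Finset.sum_congr rfl fun k _ => ?_
  have h1 : TabE8a.data.wl (L4.us k) = k := ev0.2.2.2.2 k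
  rw [wt, h1]
  push_cast
  rfl

include hq in
/-- **The sum at an element with a minimal state.** -/
theorem sum_min [Fintype ↥(PJ cs h T X {i | i ≠ (4 : Fin 8)})] (b : Fin 5 → ℚ) {g : Y}
    (hg : ∀ i : Fin 8, i ≠ 4 → 0 ≤ tabP.vec (H967.Sph.stY R hG tabP g) i) :
    ∑ z : PJ cs h T X {i | i ≠ (4 : Fin 8)}, b (tabP.cls (H967.Sph.stY R hG tabP (g * z))) =
      Nat.card (PJ cs h T X {i | i ≠ 7} ⊓ PJ cs h T X {i | i ≠ 4} : Subgroup Y) *
        ∑ k : Fin 4, (x : ℚ) ^ (k : ℕ) * b (tabP.cls (fo (wd k) (H967.Sph.stY R hG tabP g))) := by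
  classical
  have := Fintype.ofFinite Y
  have e0 := ev0
  let _ : Fintype ↥(PJ cs h T X L4.loc.J') := inferInstanceAs (Fintype ↥(PJ cs h T X {i | i ≠ (4 : Fin 8)}))
  have hU : ∀ u ∈ L4.loc.U, ∃ k, u = us k ∧ L4.loc.word u = wd k := by
    intro u hu
    obtain ⟨k, -, rfl⟩ := Finset.mem_image.1 hu
    exact ⟨k, rfl, L4.word_us k⟩
  have h1 := sum_sub R hG (ofSph tabP) (fun _ => x) hq L4.loc (Finset.mem_image.2 ⟨0, Finset.mem_univ _, e0.2.1⟩)
    (by
      intro u hu i hi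
      obtain ⟨k, -, h2⟩ := hU u hu
      rw [h2] at hi
      have key : ∀ k : Fin 4, ∀ i ∈ wd k, i ≠ 4 := by decide +kernel
      exact key k i hi)
    (wt x) wt_o wt_st (fun i hi => e0.1 i hi) ?_ (fun s hs => e0.2.2.2.1 s hs) b (g := g)
    (fun i hi => by rw [stY_ofSph]; exact hg i hi)
  · rw [sum_wt] at h1
    simp only [stY_ofSph] at h1
    rw [setEq] at h1
    exact h1
  · rw [sum_wt (fun c => if c = (ofSph tabP).cls (ofSph tabP).o then 1 else 0)]
    have h2 : ∀ k : Fin 4, (x : ℚ) ^ (k : ℕ) * (if tabP.cls (fo (wd k) (ofSph tabP).o) =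
        (ofSph tabP).cls (ofSph tabP).o then 1 else 0) = if k = 0 then 1 else 0 := by
      intro k
      have h3 : tabP.cls (fo (wd k) (ofSph tabP).o) = (ofSph tabP).cls (ofSph tabP).o ↔ k = 0 := e0.2.2.1 k
      by_cases hk : k = 0
      · rw [if_pos hk, if_pos (h3.2 hk), hk]
        simp
      · rw [if_neg hk, if_neg fun h4 => hk (h3.1 h4), mul_zero]
    rw [Finset.sum_congr rfl fun k _ => h2 k, Finset.sum_ite_eq' Finset.univ (0 : Fin 4) (fun _ => (1 : ℚ)),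
      if_pos (Finset.mem_univ _)]

theorem stY_word {ω : List (Fin 8)} {g : Y} (hg : Rp cs R.nsys (cs.wordProd ω) g) :
    H967.Sph.stY R hG tabP g = fo ω tabP.o := by
  rw [← stY_ofSph, stY_rp R hG (ofSph tabP) hg]
  rfl

include hq in
/-- **The two sums.** -/
theorem cell_sums {h₀ : Y} (hr : Rp cs R.nsys (cs.wordProd hW) h₀) [Fintype ↥(PJ cs h T X {i | i ≠ (4 : Fin 8)})]
    (φ : Fin 5 → ℕ) :
    (∑ z : PJ cs h T X {i | i ≠ (4 : Fin 8)}, φ (tabP.cls (H967.Sph.stY R hG tabP (h₀ * z))) =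
      Nat.card (PJ cs h T X {i | i ≠ 7} ⊓ PJ cs h T X {i | i ≠ 4} : Subgroup Y) *
        ((1 + x + x ^ 2) * φ 3 + x ^ 3 * φ 4)) ∧
    ∑ z : PJ cs h T X {i | i ≠ (4 : Fin 8)}, φ (tabP.cls (H967.Sph.stY R hG tabP (z * h₀))) =
      Nat.card (PJ cs h T X {i | i ≠ 7} ⊓ PJ cs h T X {i | i ≠ 4} : Subgroup Y) *
        (φ 1 + (x + x ^ 2) * φ 2 + x ^ 3 * φ 3) := by
  classical
  constructor
  · have h1 := sum_min R hG hq (fun c => (φ c : ℚ)) (g := h₀) (by rw [stY_word R hG hr]; exact ev1.1)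
    rw [stY_word R hG hr] at h1
    have h2 : ∑ k : Fin 4, (x : ℚ) ^ (k : ℕ) * (φ (tabP.cls (fo (wd k) (fo hW tabP.o))) : ℚ) =
        (1 + x + x ^ 2) * φ 3 + x ^ 3 * φ 4 := by
      rw [Finset.sum_congr rfl fun k _ => by rw [ev1.2 k]]
      simp only [Fin.sum_univ_four]
      simp
      ring
    rw [h2] at h1
    exact_mod_cast h1
  · obtain ⟨k₀, hk₀⟩ := exists_rp cs R.nsys (cs.wordProd mW)
    have hk1 : k₀ ∈ PJ cs h T X {i | i ≠ (4 : Fin 8)} :=
      LJ_le_PJ (rp_mem_LJ R (wordProd_mem (by decide)) hk₀)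
    have hr2 : Rp cs R.nsys (cs.wordProd (hW.reverse ++ mW)) (h₀⁻¹ * k₀) := by
      rw [wordProd_append, wordProd_reverse]
      exact hr.inv.mul hk₀
    have h1 := sum_min R hG hq (fun c => (φ c : ℚ)) (g := h₀⁻¹ * k₀) (by rw [stY_word R hG hr2]; exact ev2.1)
    rw [stY_word R hG hr2] at h1
    have h2 : ∑ k : Fin 4, (x : ℚ) ^ (k : ℕ) * (φ (tabP.cls (fo (wd k) (fo (hW.reverse ++ mW) tabP.o))) : ℚ) =
        φ 1 + (x + x ^ 2) * φ 2 + x ^ 3 * φ 3 := by
      rw [Finset.sum_congr rfl fun k _ => by rw [ev2.2 k]]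
      simp only [Fin.sum_univ_four]
      simp
      ring
    rw [h2] at h1
    have h3 : ∑ z : PJ cs h T X {i | i ≠ (4 : Fin 8)}, φ (tabP.cls (H967.Sph.stY R hG tabP (z * h₀))) =
        ∑ z : PJ cs h T X {i | i ≠ (4 : Fin 8)}, φ (tabP.cls (H967.Sph.stY R hG tabP (h₀⁻¹ * k₀ * z))) := by
      have e1 : ∀ z : PJ cs h T X {i | i ≠ (4 : Fin 8)}, φ (tabP.cls (H967.Sph.stY R hG tabP (z * h₀))) =
          φ (tabP.cls (H967.Sph.stY R hG tabP (h₀⁻¹ * ((z⁻¹ : PJ cs h T X {i | i ≠ (4 : Fin 8)}) : Y)))) := by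
        intro z
        have e2 := cls_inv R hG tabP isStarP ((z : Y) * h₀)
        rw [mul_inv_rev] at e2
        rw [Subgroup.coe_inv, e2]
        rfl
      refine (Finset.sum_congr rfl fun z _ => e1 z).trans ((Equiv.sum_comp (Equiv.inv (PJ cs h T X {i | i ≠ (4 : Fin 8)}))
        (fun z : PJ cs h T X {i | i ≠ (4 : Fin 8)} => φ (tabP.cls (H967.Sph.stY R hG tabP (h₀⁻¹ * z))))).trans ?_)
      rw [← Equiv.sum_comp (Equiv.mulLeft (⟨k₀, hk1⟩ : PJ cs h T X {i | i ≠ (4 : Fin 8)}))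
        (fun z : PJ cs h T X {i | i ≠ (4 : Fin 8)} => φ (tabP.cls (H967.Sph.stY R hG tabP (h₀⁻¹ * z))))]
      refine Finset.sum_congr rfl fun z _ => ?_
      rw [Equiv.coe_mulLeft, Subgroup.coe_mul, mul_assoc]
    rw [h3]
    exact_mod_cast h1

end Main

end Cfsg.Agent.H423.LB
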