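import Cfsg.Agent.H423.LB.Orth8
import Cfsg.Agent.H423.PQ.CoLocCert

/-!
# Sums over the products of two parabolic subgroups (helper423, for S4879, helper596's proof)

`t` a table for the parabolic subgroup `P`, `L` the orbit `U` of the base state under the letters of `P'`:
* `mem_U_iff` : `stY y⁻¹ ∈ U` iff `y ∈ P' P`;
* `sum_right` : the sum of `F (g y)` over `y ∈ P' P`, `g` minimal for `P'`.
-/

set_option autoImplicit false
set_option linter.unusedSectionVars false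

namespace Cfsg.Agent.H423.LB

open Cfsg.Agent.H423.PQ.Co
open CoxeterSystem Cfsg.Agent.ChevalleyStructure.CoxeterGeom Cfsg.Agent.Tits.Roots Cfsg.Agent.Tits.Core
  Cfsg.Agent.Tits.Exchange Cfsg.Agent.Nodes.Reps Cfsg.Agent.Nodes.BNOf Cfsg.Agent.Nodes.Bruhat
  Cfsg.Agent.Nodes.LeviDec
open Cfsg.Agent.H967.Sph (wOf cell_wOf)

section Co

variable {I W Y : Type*} [Fintype I] [DecidableEq I] [Group W] [Finite W] [Group Y] {M : CoxeterMatrix I}
  {cs : CoxeterSystem M W} {A : I → I → ℤ} {h : IsCartan M A} {p : ℕ} {T : Subgroup Y} {n : I → Y}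
  {X : (I → ℤ) → Subgroup Y} (R : RGD cs h p T n X) (hG : GG cs h T X = ⊤) {c : I → ℤ} {N m : ℕ} (t : Tab A c N m)

/-- the state of a monomial element is the state of its word -/
theorem stY_rp {ω : List I} {g : Y} (hg : Rp cs R.nsys (cs.wordProd ω) g) :
    stY R hG t g = ω.foldl (fun b i => t.st i b) t.o := by
  rw [stY_eq R hG t (cell_of_rp hg), ← one_mul (cs.wordProd ω), Tab.sw_wordProd, Tab.sw_one]

theorem wordProd_mem {J : Set I} {ω : List I} (hω : ∀ i ∈ ω, i ∈ J) : cs.wordProd ω ∈ WJ cs J := by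
  induction ω with
  | nil => rw [wordProd_nil]; exact one_mem _
  | cons i ω ih =>
    rw [wordProd_cons]
    exact mul_mem (simple_mem_WJ cs (hω i (by simp))) (ih fun k hk => hω k (by simp [hk]))

theorem mem_U_iff (L : Loc t) (ho : t.o ∈ L.U) (hl : ∀ u ∈ L.U, ∀ i ∈ L.word u, i ∈ L.J') {y : Y} :
    stY R hG t y⁻¹ ∈ L.U ↔ ∃ b ∈ PJ cs h T X L.J', ∃ p ∈ PJ cs h T X {i | c i = 0}, y = b * p := by
  constructor
  · intro hu
    obtain ⟨u, hu'⟩ : ∃ u, u = stY R hG t y⁻¹ := ⟨_, rfl⟩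
    rw [← hu'] at hu
    have h1 : t.sw cs h (cs.wordProd (L.word u).reverse) = t.sw cs h (wOf R hG y⁻¹) := by
      rw [← one_mul (cs.wordProd _), Tab.sw_wordProd, Tab.sw_one, L.hw u hu, hu']
      rfl
    have h2 := Tab.mem_WJ_of_sw cs h t h1
    obtain ⟨kj, hkj⟩ := exists_rp cs R.nsys (wOf R hG y⁻¹ * (cs.wordProd (L.word u).reverse)⁻¹)
    obtain ⟨kv, hkv⟩ := exists_rp cs R.nsys (cs.wordProd (L.word u).reverse)
    obtain ⟨b₁, hb₁, l, hl', b₂, hb₂, e⟩ := cell_wOf R hG y⁻¹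
    have h3 : Rp cs R.nsys (wOf R hG y⁻¹) (kj * kv) := by
      have := hkj.mul hkv
      rwa [inv_mul_cancel_right] at this
    have h4 := h3.unique hl'
    have h5 : kv ∈ PJ cs h T X L.J' := LJ_le_PJ (rp_mem_LJ R (wordProd_mem fun i hi => hl u hu i (by simpa using hi)) hkv)
    have h6 : kj ∈ PJ cs h T X {i | c i = 0} := LJ_le_PJ (rp_mem_LJ R h2 hkj)
    refine ⟨(kv * ((kj * kv)⁻¹ * l) * b₂)⁻¹, inv_mem (mul_mem (mul_mem h5 (B_le_PJ (RGD.T_le_B h4))) (B_le_PJ hb₂)),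
      (b₁ * kj)⁻¹, inv_mem (mul_mem (B_le_PJ hb₁) h6), ?_⟩
    rw [← mul_inv_rev, eq_comm, inv_eq_iff_eq_inv, e]
    group
  · rintro ⟨b, hb, p, hp, rfl⟩
    rw [mul_inv_rev]
    exact mem_mul_right R hG t L.hU (inv_mem hb) (by rw [(stY_eq_o_iff R hG t).2 (inv_mem hp)]; exact ho)

end Co

section Sum

variable {I W Y : Type*} [Fintype I] [DecidableEq I] [Group W] [Finite W] [Group Y] [Fintype Y]
    {M : CoxeterMatrix I} {cs : CoxeterSystem M W} {A : I → I → ℤ} {h : IsCartan M A} {p : ℕ} {T : Subgroup Y}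
    {n : I → Y} {X : (I → ℤ) → Subgroup Y} (R : RGD cs h p T n X) (hG : GG cs h T X = ⊤)
    {ω₀ : I → ℤ} {N m : ℕ} (t : Tab A ω₀ N m) (q : I → ℕ) (hq : ∀ i, Nat.card (X (sr i)) = q i)

/-- replacing `g` by `g * z`, `z ∈ P'` -/
theorem sum_shift (L : Loc t) (F : Y → ℚ) (g : Y) {z : Y} (hz : z ∈ PJ cs h T X L.J') :
    ∑ y : Y, (if stY R hG t y⁻¹ ∈ L.U then F (g * z * y) else 0) =
      ∑ y : Y, (if stY R hG t y⁻¹ ∈ L.U then F (g * y) else 0) := by
  classical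
  rw [← Equiv.sum_comp (Equiv.mulLeft z) (fun y : Y => if stY R hG t y⁻¹ ∈ L.U then F (g * y) else 0)]
  refine Finset.sum_congr rfl fun y _ => ?_
  rw [Equiv.coe_mulLeft, mul_assoc]
  have h2 : stY R hG t (z * y)⁻¹ ∈ L.U ↔ stY R hG t y⁻¹ ∈ L.U := by
    rw [mul_inv_rev]
    constructor
    · intro h3
      have h4 := mem_mul_right R hG t (U := {s | s ∈ L.U}) L.hU hz (g := y⁻¹ * z⁻¹) h3
      rwa [inv_mul_cancel_right] at h4
    · intro h3
      exact mem_mul_right R hG t (U := {s | s ∈ L.U}) L.hU (inv_mem hz) (g := y⁻¹) h3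
  simp only [h2]

include hq in
/-- the sum over `P'`, up to the number of cosets -/
theorem sum_sub' (L : Loc t) [Fintype (PJ cs h T X L.J')] (ho : t.o ∈ L.U) (hl : ∀ u ∈ L.U, ∀ i ∈ L.word u, i ∈ L.J')
    (wt : Fin N → ℕ) (hw : wt t.o = 1) (hws : ∀ i s, 0 < t.vec s i → wt (t.st i s) = q i * wt s)
    (b : Fin m → ℚ) {g : Y} (hg : L.Mn (stY R hG t g)) :
    (∑ z : PJ cs h T X L.J', b (t.cls (stY R hG t (g * z)))) * ∑ u ∈ L.U, (wt u : ℚ) =
      Nat.card (PJ cs h T X L.J') *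
        ∑ u ∈ L.U, (wt u : ℚ) * b (t.cls ((L.word u).foldl (fun b i => t.st i b) (stY R hG t g))) := by
  classical
  have hc : (Nat.card (PJ cs h T X {i | ω₀ i = 0}) : ℚ) ≠ 0 := Nat.cast_ne_zero.2 Nat.card_pos.ne'
  refine mul_right_cancel₀ hc ?_
  have e1 := L.sum_eq R hG t q hq wt hw hws b hg
  have e2 := L.sum_eq R hG t q hq wt hw hws (fun _ => 1) hg
  rw [cnt_o R hG t] at e1 e2
  simp only [mul_one] at e2
  rw [mul_assoc, mul_assoc, ← e2, ← e1]
  have h1 : (Nat.card (PJ cs h T X L.J') : ℚ) * ∑ y : Y, (if stY R hG t y⁻¹ ∈ L.U then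
      b (t.cls (stY R hG t (g * y))) else 0) = ∑ z : PJ cs h T X L.J', ∑ y : Y, (if stY R hG t y⁻¹ ∈ L.U then
      b (t.cls (stY R hG t (g * z * y))) else 0) := by
    rw [Finset.sum_congr rfl fun (z : PJ cs h T X L.J') _ =>
      sum_shift R hG t L (fun y => b (t.cls (stY R hG t y))) g z.2, Finset.sum_const, Finset.card_univ,
      nsmul_eq_mul, Nat.card_eq_fintype_card]
  rw [h1, Finset.sum_comm, Finset.mul_sum]
  refine Finset.sum_congr rfl fun y _ => ?_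
  split_ifs with hy
  · rw [mul_one]
    obtain ⟨b₁, hb₁, p₁, hp₁, rfl⟩ := (mem_U_iff R hG t L ho hl).1 hy
    rw [← Equiv.sum_comp (Equiv.mulRight (⟨b₁, hb₁⟩ : PJ cs h T X L.J'))
      (fun z : PJ cs h T X L.J' => b (t.cls (stY R hG t (g * z))))]
    refine Finset.sum_congr rfl fun z _ => ?_
    rw [Equiv.coe_mulRight, Subgroup.coe_mul, ← mul_assoc (g * (z : Y)) b₁ p₁, cls_mul_right R hG t hp₁]
    congr 3
    group
  · rw [mul_zero, Finset.sum_const_zero]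

include R hG hq in
/-- the order of `P'` -/
theorem card_sub (L : Loc t) [Fintype (PJ cs h T X L.J')] (ho : t.o ∈ L.U) (hl : ∀ u ∈ L.U, ∀ i ∈ L.word u, i ∈ L.J')
    (wt : Fin N → ℕ) (hw : wt t.o = 1) (hws : ∀ i s, 0 < t.vec s i → wt (t.st i s) = q i * wt s)
    (hm : L.Mn t.o) (h1 : ∑ u ∈ L.U, (wt u : ℚ) * (if t.cls ((L.word u).foldl (fun b i => t.st i b) t.o) =
      t.cls t.o then 1 else 0) = 1) (hco : ∀ s, t.cls s = t.cls t.o → s = t.o) :
    (Nat.card (PJ cs h T X {i | ω₀ i = 0} ⊓ PJ cs h T X L.J' : Subgroup Y) : ℚ) * ∑ u ∈ L.U, (wt u : ℚ) =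
      Nat.card (PJ cs h T X L.J') := by
  classical
  have e0 : stY R hG t 1 = t.o := (stY_eq_o_iff R hG t).2 (one_mem _)
  have e1 := sum_sub' R hG t q hq L ho hl wt hw hws (fun k => if k = t.cls t.o then 1 else 0) (g := 1)
    (by rw [e0]; exact hm)
  rw [e0, h1, mul_one] at e1
  rw [← e1]
  congr 1
  have h2 : ∀ z : PJ cs h T X L.J', (if t.cls (stY R hG t (1 * (z : Y))) = t.cls t.o then (1 : ℚ) else 0) =
      if (z : Y) ∈ PJ cs h T X {i | ω₀ i = 0} then 1 else 0 := by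
    intro z
    rw [one_mul]
    refine if_congr ?_ rfl rfl
    rw [← stY_eq_o_iff R hG t]
    exact ⟨fun h3 => hco _ h3, fun h3 => by rw [h3]⟩
  rw [Finset.sum_congr rfl fun z _ => h2 z, Finset.sum_boole]
  congr 1
  rw [← Fintype.card_subtype, ← Nat.card_eq_fintype_card]
  refine Nat.card_congr ⟨fun z => ⟨⟨z.1, z.2.2⟩, z.2.1⟩, fun z => ⟨z.1.1, z.2, z.1.2⟩, fun _ => rfl, fun _ => rfl⟩

include hq in
/-- **The sum over `P'`.** -/
theorem sum_sub (L : Loc t) [Fintype (PJ cs h T X L.J')] (ho : t.o ∈ L.U) (hl : ∀ u ∈ L.U, ∀ i ∈ L.word u, i ∈ L.J')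
    (wt : Fin N → ℕ) (hw : wt t.o = 1) (hws : ∀ i s, 0 < t.vec s i → wt (t.st i s) = q i * wt s)
    (hm : L.Mn t.o) (h1 : ∑ u ∈ L.U, (wt u : ℚ) * (if t.cls ((L.word u).foldl (fun b i => t.st i b) t.o) =
      t.cls t.o then 1 else 0) = 1) (hco : ∀ s, t.cls s = t.cls t.o → s = t.o)
    (b : Fin m → ℚ) {g : Y} (hg : L.Mn (stY R hG t g)) :
    ∑ z : PJ cs h T X L.J', b (t.cls (stY R hG t (g * z))) =
      Nat.card (PJ cs h T X {i | ω₀ i = 0} ⊓ PJ cs h T X L.J' : Subgroup Y) *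
        ∑ u ∈ L.U, (wt u : ℚ) * b (t.cls ((L.word u).foldl (fun b i => t.st i b) (stY R hG t g))) := by
  have e1 := sum_sub' R hG t q hq L ho hl wt hw hws b hg
  have e2 := card_sub R hG t q hq L ho hl wt hw hws hm h1 hco
  have h3 : ∑ u ∈ L.U, (wt u : ℚ) ≠ 0 := by
    intro h0
    rw [h0, mul_zero] at e2
    exact absurd e2.symm (Nat.cast_ne_zero.2 Nat.card_pos.ne')
  refine mul_right_cancel₀ h3 ?_
  rw [e1, ← e2]
  ring

end Sum

section Bridge

variable {I W Y : Type*} [Fintype I] [DecidableEq I] [Group W] [Finite W] [Group Y] {M : CoxeterMatrix I}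
  {cs : CoxeterSystem M W} {A : I → I → ℤ} {h : IsCartan M A} {p : ℕ} {T : Subgroup Y} {n : I → Y}
  {X : (I → ℤ) → Subgroup Y} (R : RGD cs h p T n X) (hG : GG cs h T X = ⊤) {j : I} {N m : ℕ} (t : H967.Sph.Tab A j N m)

theorem lam_eq (w : W) : lam cs h (Pi.single j (1 : ℤ)) w = H967.Sph.lam cs h j w := by
  funext k
  rw [lam, H967.Sph.lam, Finset.sum_eq_single j]
  · rw [Pi.single_eq_same, one_mul]
  · intro i _ hi
    rw [Pi.single_eq_of_ne hi, zero_mul]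
  · exact fun h0 => absurd (Finset.mem_univ j) h0

theorem stY_ofSph (g : Y) : stY R hG (ofSph t) g = H967.Sph.stY R hG t g := by
  refine (ofSph t).sw_eq cs h ?_
  show t.vec _ = _
  rw [lam_eq]
  exact H967.Sph.Tab.vec_sw cs h t _

theorem setEq : {i : I | (Pi.single j (1 : ℤ) : I → ℤ) i = 0} = {i | i ≠ j} := by
  ext i
  show (Pi.single j (1 : ℤ) : I → ℤ) i = 0 ↔ i ≠ j
  constructor
  · rintro h0 rfl
    rw [Pi.single_eq_same] at h0
    exact one_ne_zero h0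
  · exact fun h0 => Pi.single_eq_of_ne h0 _

end Bridge

end Cfsg.Agent.H423.LB
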