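import Cfsg.Agent.H423.PQ.CoLoc
import Cfsg.Agent.H594.PQ.Star

/-!
# Elements commuting with the root groups of the nodes `0, 1, 2, 3` of `E₈` (helper423, for S4879, helper596's proof)

* `comm_sr` : the root groups of `± α_i`, `± α_j` commute if `A i j = 0`;
* `exists_n` : an element over the simple reflection in the group generated by `X α_i`, `X (-α_i)`.
-/

set_option autoImplicit false
set_option linter.unusedSectionVars false

namespace Cfsg.Agent.H423.LB

open CoxeterSystem Cfsg.Agent.ChevalleyStructure.CoxeterGeom Cfsg.Agent.Tits.Roots Cfsg.Agent.Tits.Core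
  Cfsg.Agent.Tits.Exchange Cfsg.Agent.Nodes.Reps Cfsg.Agent.Nodes.BNOf Cfsg.Agent.Nodes.Bruhat
  Cfsg.Agent.Nodes.LeviDec

section Gen

variable {I W Y : Type*} [Fintype I] [DecidableEq I] [Group W] [Finite W] [Group Y] {M : CoxeterMatrix I}
  {cs : CoxeterSystem M W} {A : I → I → ℤ} {h : IsCartan M A} {p : ℕ} {T : Subgroup Y} {n : I → Y}
  {X : (I → ℤ) → Subgroup Y} (R : RGD cs h p T n X)

/-- a root is not mixed -/
theorem not_mixed {z : I → ℤ} (hz : IsRoot cs h z) {i j : I} (hi : 0 < z i) (hj : z j < 0) : False := by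
  obtain ⟨w, k, rfl⟩ := hz
  rcases nonneg_or_nonpos cs h w k with h1 | h1
  · exact absurd (h1 j) (not_le.2 hj)
  · exact absurd (h1 i) (not_le.2 hi)

theorem rep_sr_of_zero {i j : I} (hij : A i j = 0) : rep cs h (cs.simple i) (sr j) = sr j := by
  rw [rep_simple_eq, sr, pairing_single, mul_one, hij, zero_smul, sub_zero]

theorem rep_simple_self (i : I) : rep cs h (cs.simple i) (sr i) = -sr i := by
  rw [rep_simple_eq, sr, pairing_single, mul_one, h.diag i]
  rw [two_smul]
  abel

/-- no root between `± α_i` and `± α_j` -/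
theorem not_btwn {i j : I} (hne : i ≠ j) (hij : A i j = 0) {x y z : I → ℤ} (hx : x = sr i ∨ x = -sr i)
    (hy : y = sr j ∨ y = -sr j) : ¬ Btwn cs h x y z := by
  rintro ⟨hz, m, a, b, hm, ha, hb, he⟩
  have hzi : ∀ k : I, m * z k = a * x k + b * y k := fun k => by
    have h1 := congrFun he k
    simpa only [Pi.add_apply, Pi.smul_apply, smul_eq_mul] using h1
  have hz' : IsRoot cs h (rep cs h (cs.simple i) z) := hz.act _
  have he' : m • rep cs h (cs.simple i) z = a • (-x) + b • y := by
    rw [← map_smul, he, map_add, map_smul, map_smul]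
    congr 2
    · rcases hx with rfl | rfl
      · rw [rep_simple_self]
      · rw [map_neg, rep_simple_self]
    · rcases hy with rfl | rfl
      · rw [rep_sr_of_zero hij]
      · rw [map_neg, rep_sr_of_zero hij]
  have hzi' : ∀ k : I, m * rep cs h (cs.simple i) z k = -(a * x k) + b * y k := fun k => by
    have h1 := congrFun he' k
    simp only [Pi.add_apply, Pi.smul_apply, smul_eq_mul, Pi.neg_apply] at h1
    rw [h1]
    ring
  have e1 : sr i i = 1 := sr_self i
  have e2 : sr j j = 1 := sr_self j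
  have e3 : sr i j = 0 := sr_ne (Ne.symm hne)
  have e4 : sr j i = 0 := sr_ne hne
  have key : ∀ {v : I → ℤ}, IsRoot cs h v → ∀ {k l : I}, 0 < m * v k → m * v l < 0 → False := by
    intro v hv k l hk hl
    refine not_mixed hv (i := k) (j := l) ?_ ?_
    · by_contra hc
      exact absurd hk (not_lt.2 (mul_nonpos_of_nonneg_of_nonpos hm.le (not_lt.1 hc)))
    · by_contra hc
      exact absurd hl (not_lt.2 (mul_nonneg hm.le (not_lt.1 hc)))
  rcases hx with rfl | rfl <;> rcases hy with rfl | rfl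
  · refine key hz' (k := j) (l := i) ?_ ?_
    · rw [hzi', e3, e2]; linarith
    · rw [hzi', e1, e4]; linarith
  · refine key hz (k := i) (l := j) ?_ ?_
    · rw [hzi, e1, Pi.neg_apply, e4]; linarith
    · rw [hzi, e3, Pi.neg_apply, e2]; linarith
  · refine key hz (k := j) (l := i) ?_ ?_
    · rw [hzi, Pi.neg_apply, e3, e2]; linarith
    · rw [hzi, Pi.neg_apply, e1, e4]; linarith
  · refine key hz' (k := i) (l := j) ?_ ?_
    · rw [hzi', Pi.neg_apply, Pi.neg_apply, e1, e4]; linarith
    · rw [hzi', Pi.neg_apply, Pi.neg_apply, e3, e2]; linarith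

theorem sr_ne_of {i j : I} (hne : i ≠ j) {x y : I → ℤ} (hx : x = sr i ∨ x = -sr i) (hy : y = sr j ∨ y = -sr j) :
    x ≠ y := by
  intro he
  have h1 := congrFun he i
  rcases hx with rfl | rfl <;> rcases hy with rfl | rfl
  · rw [sr_self, sr_ne hne] at h1; omega
  · rw [Pi.neg_apply, sr_self, sr_ne hne] at h1; omega
  · rw [Pi.neg_apply, sr_self, sr_ne hne] at h1; omega
  · rw [Pi.neg_apply, Pi.neg_apply, sr_self, sr_ne hne] at h1; omega

theorem isRoot_pm {i : I} {x : I → ℤ} (hx : x = sr i ∨ x = -sr i) : IsRoot cs h x := by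
  rcases hx with rfl | rfl
  · exact isRoot_sr cs h i
  · exact (isRoot_sr cs h i).neg

include R in
/-- **orthogonal simple roots: the root groups commute** -/
theorem comm_sr {i j : I} (hne : i ≠ j) (hij : A i j = 0) {x y : I → ℤ} (hx : x = sr i ∨ x = -sr i)
    (hy : y = sr j ∨ y = -sr j) {a b : Y} (ha : a ∈ X x) (hb : b ∈ X y) : a * b = b * a := by
  have h5 := R.comm x y (isRoot_pm hx) (isRoot_pm hy) (sr_ne_of hne hx hy) (sr_ne_of hne hx (by
    rcases hy with rfl | rfl
    · exact Or.inr rfl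
    · exact Or.inl (neg_neg _))) a ha b hb
  have h6 : btw cs h X x y = ⊥ := by
    rw [Cfsg.Agent.Nodes.Reps.btw, eq_bot_iff]
    exact iSup_le fun z => absurd z.2 (not_btwn hne hij hx hy)
  rw [h6, Subgroup.mem_bot, commutatorElement_eq_one_iff_mul_comm] at h5
  exact h5

/-- the group generated by the root groups of `± α_j` -/
def Sj (X : (I → ℤ) → Subgroup Y) (j : I) : Subgroup Y := X (sr j) ⊔ X (-sr j)

include R in
theorem comm_Sj {i j : I} (hne : i ≠ j) (hij : A i j = 0) {a b : Y} (ha : a ∈ Sj X i) (hb : b ∈ Sj X j) :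
    a * b = b * a := by
  have h1 : ∀ x : I → ℤ, (x = sr i ∨ x = -sr i) → ∀ y : I → ℤ, (y = sr j ∨ y = -sr j) →
      X y ≤ Subgroup.centralizer (X x : Set Y) := by
    intro x hx y hy b hb
    rw [Subgroup.mem_centralizer_iff]
    intro a ha
    exact comm_sr R hne hij hx hy ha hb
  have h2 : ∀ x : I → ℤ, (x = sr i ∨ x = -sr i) → Sj X j ≤ Subgroup.centralizer (X x : Set Y) := fun x hx =>
    sup_le (h1 x hx _ (Or.inl rfl)) (h1 x hx _ (Or.inr rfl))
  have h3 : Sj X i ≤ Subgroup.centralizer (Sj X j : Set Y) := by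
    refine sup_le ?_ ?_
    · rw [Subgroup.le_centralizer_iff]
      exact h2 _ (Or.inl rfl)
    · rw [Subgroup.le_centralizer_iff]
      exact h2 _ (Or.inr rfl)
  exact ((Subgroup.mem_centralizer_iff.1 (h3 ha)) b hb).symm

include R in
/-- an element over the reflection `s_i` in the group generated by the root groups of `± α_i` -/
theorem exists_n (i : I) : ∃ m ∈ Sj X i, Rp cs R.nsys (cs.simple i) m := by
  have h1 : ∃ u ∈ X (-sr i), u ≠ 1 := by
    by_contra hcon
    push Not at hcon
    have h2 : X (-sr i) = ⊥ := (Subgroup.eq_bot_iff_forall _).2 hcon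
    have h3 := R.notp i
    rw [h2, sup_bot_eq] at h3
    exact h3 (R.pgrp i)
  obtain ⟨u, hu, hu1⟩ := h1
  obtain ⟨a, ha, t, ht, b, hb, e⟩ := R.rk1 i u hu hu1
  refine ⟨a⁻¹ * u * b⁻¹, mul_mem (mul_mem (inv_mem (Subgroup.mem_sup_left ha)) (Subgroup.mem_sup_right hu))
    (inv_mem (Subgroup.mem_sup_left hb)), ?_⟩
  have h2 : a⁻¹ * u * b⁻¹ = t * n i := by
    rw [e]
    group
  rw [h2, ← one_mul (cs.simple i)]
  exact (rp_of_mem ht).mul (rp_simple cs R.nsys i)

/-- the image of a root under a word -/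
def actL (A : I → I → ℤ) (l : List I) (x : I → ℤ) : I → ℤ := l.foldr (fun i y => y - pairing A i y • sr i) x

theorem rep_word (l : List I) (x : I → ℤ) : rep cs h (cs.wordProd l) x = actL A l x := by
  induction l with
  | nil => rw [wordProd_nil, map_one, Module.End.one_apply]; rfl
  | cons i l ih => rw [wordProd_cons, rep_mul_apply, ih, rep_simple_eq]; rfl

include R in
/-- conjugation of `Sj` -/
theorem conj_Sj {l : List I} {k : Y} (hk : Rp cs R.nsys (cs.wordProd l) k) {i j : I} (he : actL A l (sr i) = sr j)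
    {a : Y} (ha : a ∈ Sj X j) : k⁻¹ * a * k ∈ Sj X i := by
  have h1 : rep cs h (cs.wordProd l) (sr i) = sr j := by rw [rep_word, he]
  have h2 : rep cs h (cs.wordProd l)⁻¹ (sr j) = sr i := by rw [← h1, rep_inv_apply]
  have h3 : Sj X j ≤ cj k (Sj X i) := by
    refine sup_le ?_ ?_
    · intro u hu
      rw [mem_cj]
      refine Subgroup.mem_sup_left ?_
      have := R.conj_mem' hk (isRoot_sr cs h j) hu
      rwa [h2] at this
    · intro u hu
      rw [mem_cj]
      refine Subgroup.mem_sup_right ?_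
      have := R.conj_mem' hk (isRoot_sr cs h j).neg hu
      rwa [map_neg, h2] at this
  exact mem_cj.1 (h3 ha)

include R in
/-- **An element over a reflection, commuting with root groups.** -/
theorem exists_refl (l : List I) (i : I) : ∃ m : Y, Rp cs R.nsys (cs.wordProd (l ++ i :: l.reverse)) m ∧
    ∀ j k : I, actL A l (sr j) = sr k → i ≠ j → A i j = 0 → ∀ a ∈ Sj X k, m * a = a * m := by
  obtain ⟨m, hm, hr⟩ := exists_n R i
  obtain ⟨k, hk⟩ := exists_rp cs R.nsys (cs.wordProd l)
  refine ⟨k * m * k⁻¹, ?_, fun j j' he hne hij a ha => ?_⟩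
  · rw [wordProd_append, wordProd_cons, wordProd_reverse, ← mul_assoc]
    exact (hk.mul hr).mul hk.inv
  · have h1 := conj_Sj R hk he ha
    have h2 := comm_Sj R hne hij hm h1
    calc k * m * k⁻¹ * a = k * (m * (k⁻¹ * a * k)) * k⁻¹ := by group
      _ = k * ((k⁻¹ * a * k) * m) * k⁻¹ := by rw [h2]
      _ = a * (k * m * k⁻¹) := by group

end Gen

end Cfsg.Agent.H423.LB
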